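import Mathlib
import Cfsg.Prelude.Def_Solvable
import Cfsg.Prelude.Def_PLocal
import Cfsg.Agent.Lib.Helper31.PU.Torus
import Cfsg.Agent.Lib.Helper5.PSL2
import Cfsg.Agent.Lib.Helper11.ZJ
import Cfsg.Agent.Lib.Helper84.PCoreBasic
import Cfsg.Agent.Lib.Helper87.ThJ

/-!
# Pushing up: common base

Setting: `G` finite, `S` a Sylow `p`-subgroup contained in a unique maximal subgroup,
`C_G(O_p(G)) ≤ O_p(G)`, and a surjection `π : G → PSL₂(F)` with `|F| = p ^ n`.
-/

set_option autoImplicit false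

namespace Cfsg.Agent.Lib.Helper31.PU

open Cfsg Cfsg.Agent.Lib.Helper87

universe u

section generic

variable {G : Type u} [Group G]

theorem mem_normalizer_of_conj [Finite G] {H : Subgroup G} {g : G}
    (h : ∀ x ∈ H, g * x * g⁻¹ ∈ H) : g ∈ Subgroup.normalizer (H : Set G) := by
  rw [Subgroup.mem_normalizer_iff]
  intro x
  refine ⟨h x, fun hx => ?_⟩
  let f : H → H := fun y => ⟨g * y * g⁻¹, h y y.2⟩
  have hinj : Function.Injective f := by
    intro y z hyz
    have h1 : g * (y : G) * g⁻¹ = g * (z : G) * g⁻¹ := congrArg Subtype.val hyz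
    apply Subtype.ext
    have h2 : (y : G) = g⁻¹ * (g * (y : G) * g⁻¹) * g := by group
    rw [h2, h1]
    group
  have hsurj := Finite.surjective_of_injective hinj
  obtain ⟨y, hy⟩ := hsurj ⟨g * x * g⁻¹, hx⟩
  have h1 : g * (y : G) * g⁻¹ = g * x * g⁻¹ := congrArg Subtype.val hy
  have h2 : (y : G) = x := by
    have h3 : (y : G) = g⁻¹ * (g * (y : G) * g⁻¹) * g := by group
    rw [h3, h1]
    group
  rw [← h2]
  exact y.2

theorem normal_of_le_center {D : Subgroup G} (h : D ≤ Subgroup.center G) : D.Normal := by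
  constructor
  intro x hx g
  have hc := Subgroup.mem_center_iff.mp (h hx) g
  have h1 : g * x * g⁻¹ = x := by
    rw [hc]
    group
  rw [h1]
  exact hx

theorem closure_normal_of_conj {s : Set G} (h : ∀ x ∈ s, ∀ g : G, g * x * g⁻¹ ∈ s) :
    (Subgroup.closure s).Normal := by
  have h1 : Subgroup.closure s = Subgroup.normalClosure s := by
    apply le_antisymm Subgroup.closure_le_normalClosure
    unfold Subgroup.normalClosure
    apply Subgroup.closure_mono
    intro y hy
    obtain ⟨x, hx, hxy⟩ := Group.mem_conjugatesOfSet_iff.mp hy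
    obtain ⟨c, hc⟩ := isConj_iff.mp hxy
    rw [← hc]
    exact h x hx c
  rw [h1]
  exact Subgroup.normalClosure_normal

theorem conj_mem_sup {H K Y : Subgroup G} {g : G} (hH : ∀ x ∈ H, g * x * g⁻¹ ∈ Y)
    (hK : ∀ x ∈ K, g * x * g⁻¹ ∈ Y) : ∀ x ∈ H ⊔ K, g * x * g⁻¹ ∈ Y := by
  intro x hx
  have h1 : H ⊔ K ≤ Y.comap (MulAut.conj g).toMonoidHom := by
    apply sup_le
    · intro y hy
      exact hH y hy
    · intro y hy
      exact hK y hy
  exact h1 hx

theorem normalizer_le_normalizer_zjc (D : Subgroup G) :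
    Subgroup.normalizer (D : Set G) ≤ Subgroup.normalizer (centerThompsonAOf D : Set G) := by
  intro g hg
  have hJ := normalizer_le_normalizer_thompson D hg
  rw [Subgroup.mem_normalizer_iff] at hJ ⊢
  intro x
  unfold centerThompsonAOf
  rw [Subgroup.mem_inf, Subgroup.mem_inf, ← hJ x, Subgroup.mem_centralizer_iff,
    Subgroup.mem_centralizer_iff]
  constructor
  · rintro ⟨h1, h2⟩
    refine ⟨h1, fun y hy => ?_⟩
    have hy' : g⁻¹ * y * g ∈ thompsonSubgroupAOf D := by
      apply (hJ (g⁻¹ * y * g)).mpr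
      have e : g * (g⁻¹ * y * g) * g⁻¹ = y := by group
      rw [e]
      exact hy
    have h3 := h2 _ hy'
    calc y * (g * x * g⁻¹) = g * ((g⁻¹ * y * g) * x) * g⁻¹ := by group
      _ = g * (x * (g⁻¹ * y * g)) * g⁻¹ := by rw [h3]
      _ = g * x * g⁻¹ * y := by group
  · rintro ⟨h1, h2⟩
    refine ⟨h1, fun y hy => ?_⟩
    have hy' : g * y * g⁻¹ ∈ thompsonSubgroupAOf D := (hJ y).mp hy
    have h3 := h2 _ hy'
    calc y * x = g⁻¹ * ((g * y * g⁻¹) * (g * x * g⁻¹)) * g := by group
      _ = g⁻¹ * ((g * x * g⁻¹) * (g * y * g⁻¹)) * g := by rw [h3]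
      _ = x * y := by group

theorem relIndex_pos' [Finite G] {D V : Subgroup G} (h : D ≤ V) : 0 < D.relIndex V := by
  have h1 := Cfsg.Agent.Lib.Helper37.Torus.card_eq_card_mul_relIndex h
  have h2 : 0 < Nat.card V := Nat.card_pos
  rcases Nat.eq_zero_or_pos (D.relIndex V) with h0 | h0
  · rw [h0, mul_zero] at h1
    omega
  · exact h0

theorem relIndex_le_of_le [Finite G] {D E V : Subgroup G} (hDE : D ≤ E) (hEV : E ≤ V) :
    E.relIndex V ≤ D.relIndex V :=
  Subgroup.relIndex_le_of_le_left hDE (relIndex_pos' (hDE.trans hEV)).ne'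

theorem nat_aux {m r i j : ℕ} (h : m * i * r ≤ m * r * j) (hmr : 0 < m * r) : i ≤ j := by
  apply Nat.le_of_mul_le_mul_left _ hmr
  calc m * r * i = m * i * r := by ring
    _ ≤ m * r * j := h

theorem comm_aux {b a v : G} (hc : a * b = b * a) :
    (b * v) * a * (b * v)⁻¹ * a⁻¹ = b * (v * (a * v⁻¹ * a⁻¹)) * b⁻¹ := by
  have hc' : b⁻¹ * a⁻¹ = a⁻¹ * b⁻¹ := by
    rw [← mul_inv_rev, ← mul_inv_rev, hc]
  calc (b * v) * a * (b * v)⁻¹ * a⁻¹ = b * v * a * v⁻¹ * (b⁻¹ * a⁻¹) := by group
    _ = b * v * a * v⁻¹ * (a⁻¹ * b⁻¹) := by rw [hc']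
    _ = b * (v * (a * v⁻¹ * a⁻¹)) * b⁻¹ := by group

theorem powerClosure_normal (p k : ℕ) (V : Subgroup G) [hV : V.Normal] :
    (powerClosure p k V).Normal := by
  unfold powerClosure
  apply closure_normal_of_conj
  rintro y ⟨x, hx, rfl⟩ g
  exact ⟨g * x * g⁻¹, hV.conj_mem x hx g, by rw [conj_pow]⟩

theorem powerClosure_le (p k : ℕ) (V : Subgroup G) : powerClosure p k V ≤ V := by
  unfold powerClosure
  rw [Subgroup.closure_le]
  rintro y ⟨x, hx, rfl⟩
  exact V.pow_mem hx _

theorem powerClosure_mono (p k : ℕ) {V W : Subgroup G} (h : V ≤ W) :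
    powerClosure p k V ≤ powerClosure p k W := by
  unfold powerClosure
  apply Subgroup.closure_mono
  rintro y ⟨x, hx, rfl⟩
  exact ⟨x, h hx, rfl⟩

/-- In an abelian `p`-group `V` acted on nontrivially by `a`, the index of the centralizer of
`a` drops strictly on passing to the subgroup of `p`-th powers. -/
theorem pow_strict [Finite G] {p : ℕ} [Fact p.Prime] (V : Subgroup G) (hVab : IsAb V)
    (hVp : IsPGroup p V) {a : G} (ha : a ∉ Subgroup.centralizer (V : Set G)) :
    (powerClosure p 1 V ⊓ Subgroup.centralizer ({a} : Set G)).relIndex (powerClosure p 1 V) <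
      (V ⊓ Subgroup.centralizer ({a} : Set G)).relIndex V := by
  classical
  let θ : ↥V →* G :=
    { toFun := fun v => (v : G) ^ p
      map_one' := by simp
      map_mul' := fun v w => by
        have hc : Commute (v : G) (w : G) := hVab v v.2 w w.2
        simpa using hc.mul_pow p }
  have hθ : ∀ v : ↥V, θ v = (v : G) ^ p := fun v => rfl
  have hrange : powerClosure p 1 V = θ.range := by
    apply le_antisymm
    · unfold powerClosure
      rw [Subgroup.closure_le]
      rintro y ⟨x, hx, rfl⟩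
      exact ⟨⟨x, hx⟩, by rw [hθ, pow_one]⟩
    · rintro y ⟨v, rfl⟩
      apply Subgroup.subset_closure
      exact ⟨v, v.2, by rw [hθ, pow_one]⟩
  rw [hrange]
  have hidx : (((θ.range ⊓ Subgroup.centralizer ({a} : Set G)).subgroupOf θ.range).comap
      θ.rangeRestrict).index
      = (θ.range ⊓ Subgroup.centralizer ({a} : Set G)).relIndex θ.range :=
    Subgroup.index_comap_of_surjective _ θ.rangeRestrict_surjective
  rw [← hidx]
  show _ < ((V ⊓ Subgroup.centralizer ({a} : Set G)).subgroupOf V).index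
  apply Subgroup.index_strictAnti
  rw [SetLike.lt_iff_le_and_exists]
  constructor
  · intro v hv
    rw [Subgroup.mem_subgroupOf] at hv
    rw [Subgroup.mem_comap, Subgroup.mem_subgroupOf, MonoidHom.coe_rangeRestrict]
    exact ⟨⟨v, rfl⟩, by rw [hθ]; exact Subgroup.pow_mem _ hv.2 p⟩
  · -- an element `w` with `w ^ p` centralized by `a` but `w` not
    have hex : ∃ v ∈ V, v ∉ Subgroup.centralizer ({a} : Set G) := by
      by_contra hcon
      push Not at hcon
      apply ha
      rw [Subgroup.mem_centralizer_iff]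
      intro v hv
      have h1 := hcon v hv
      rw [Subgroup.mem_centralizer_iff] at h1
      exact (h1 a rfl).symm
    obtain ⟨v, hv, hva⟩ := hex
    have hfin : ∃ k : ℕ, v ^ (p ^ k) ∈ Subgroup.centralizer ({a} : Set G) := by
      obtain ⟨k, hk⟩ := hVp ⟨v, hv⟩
      refine ⟨k, ?_⟩
      have h1 : v ^ (p ^ k) = 1 := by
        have := congrArg Subtype.val hk
        simpa using this
      rw [h1]
      exact Subgroup.one_mem _
    have hk0 : Nat.find hfin ≠ 0 := by
      intro h0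
      have h1 := Nat.find_spec hfin
      rw [h0, pow_zero, pow_one] at h1
      exact hva h1
    obtain ⟨j, hj⟩ := Nat.exists_eq_succ_of_ne_zero hk0
    have hjlt : j < Nat.find hfin := by omega
    have hw : v ^ (p ^ j) ∉ Subgroup.centralizer ({a} : Set G) := Nat.find_min hfin hjlt
    have hwp : (v ^ (p ^ j)) ^ p ∈ Subgroup.centralizer ({a} : Set G) := by
      have h1 := Nat.find_spec hfin
      rw [hj, pow_succ, pow_mul] at h1
      exact h1
    refine ⟨⟨v ^ (p ^ j), V.pow_mem hv _⟩, ?_, ?_⟩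
    · rw [Subgroup.mem_comap, Subgroup.mem_subgroupOf, MonoidHom.coe_rangeRestrict]
      exact ⟨⟨_, rfl⟩, by rw [hθ]; exact hwp⟩
    · rw [Subgroup.mem_subgroupOf]
      intro h
      exact hw h.2

end generic

section psl

variable {F : Type} [Field F] [Fintype F]

theorem psl_card_le (F : Type) [Field F] [Fintype F] :
    Fintype.card F * (Fintype.card F ^ 2 - 1) ≤
      2 * Nat.card (Matrix.ProjectiveSpecialLinearGroup (Fin 2) F) ∧
    Nat.card (Matrix.ProjectiveSpecialLinearGroup (Fin 2) F) ∣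
      Fintype.card F * (Fintype.card F ^ 2 - 1) := by
  have h1 := Cfsg.Agent.Lib.Helper5.card_PSL_mul_card_center (Fin 2) F
  rw [Cfsg.Agent.Lib.Helper5.card_SL2] at h1
  constructor
  · by_cases h2 : (2 : F) = 0
    · rw [Cfsg.Agent.Lib.Helper5.center_SL2_eq_bot_of_two_eq_zero h2, Subgroup.card_bot,
        mul_one] at h1
      omega
    · rw [Cfsg.Agent.Lib.Helper5.card_center_SL2_of_two_ne_zero h2] at h1
      omega
  · exact Dvd.intro _ h1

theorem psl_card_dvd {p : ℕ} [Fact p.Prime] {n : ℕ} (hF : Fintype.card F = p ^ n)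
    (P : Subgroup (Matrix.ProjectiveSpecialLinearGroup (Fin 2) F)) (hP : IsPGroup p P) :
    Nat.card P ∣ p ^ n := by
  have hp : p.Prime := Fact.out
  obtain ⟨k, hk⟩ := hP.exists_card_eq
  have h1 : Nat.card P ∣ Fintype.card F * (Fintype.card F ^ 2 - 1) :=
    (Subgroup.card_subgroup_dvd_card P).trans (psl_card_le F).2
  rw [hk, hF] at h1
  rw [hk]
  have hn : n ≠ 0 := by
    rintro rfl
    have h2 := Fintype.one_lt_card (α := F)
    rw [hF] at h2
    simp at h2
  have hcop : Nat.Coprime (p ^ k) ((p ^ n) ^ 2 - 1) := by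
    apply Nat.Coprime.pow_left
    rw [Nat.Prime.coprime_iff_not_dvd hp]
    intro hd
    have h2 : p ∣ (p ^ n) ^ 2 := Dvd.dvd.pow (dvd_pow_self p hn) (by norm_num)
    have h3 : (p ^ n) ^ 2 = ((p ^ n) ^ 2 - 1) + 1 := by
      have h4 : 1 ≤ (p ^ n) ^ 2 := Nat.one_le_pow _ _ (pow_pos hp.pos n)
      omega
    rw [h3] at h2
    have h5 := (Nat.dvd_add_right hd).mp h2
    exact hp.one_lt.ne' (Nat.dvd_one.mp h5)
  exact hcop.dvd_of_dvd_mul_right h1

theorem psl_pgroup_ne_top {p : ℕ} [Fact p.Prime] {n : ℕ} (hF : Fintype.card F = p ^ n)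
    (P : Subgroup (Matrix.ProjectiveSpecialLinearGroup (Fin 2) F)) (hP : IsPGroup p P) :
    P ≠ ⊤ := by
  rintro rfl
  have hp : p.Prime := Fact.out
  have h1 := psl_card_dvd hF ⊤ hP
  rw [Subgroup.card_top] at h1
  have h2 := Nat.le_of_dvd (pow_pos hp.pos n) h1
  have h3 := (psl_card_le F).1
  rw [hF] at h3
  have hq : 2 ≤ p ^ n := by
    rw [← hF]
    exact Fintype.one_lt_card
  have h4 : 4 ≤ (p ^ n) ^ 2 := by nlinarith
  have h5 : p ^ n * 3 ≤ p ^ n * ((p ^ n) ^ 2 - 1) := Nat.mul_le_mul_left _ (by omega)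
  omega

end psl

end Cfsg.Agent.Lib.Helper31.PU
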