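import Mathlib
import Cfsg.Agent.Lib.Helper31.PU.Base

/-!
# Pushing up: the `PSL₂` case, Steps 1–4
-/

set_option autoImplicit false

namespace Cfsg.Agent.Lib.Helper31.PU

open Cfsg Cfsg.Agent.Lib.Helper87

universe u

/-- `Z(S)`. -/
abbrev ZS {G : Type u} [Group G] {p : ℕ} [Fact p.Prime] (S : Sylow p G) : Subgroup G :=
  (S : Subgroup G) ⊓ Subgroup.centralizer ((S : Subgroup G) : Set G)

/-- the normal closure of `Z(S)`. -/
abbrev VS {G : Type u} [Group G] {p : ℕ} [Fact p.Prime] (S : Sylow p G) : Subgroup G :=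
  Subgroup.normalClosure ((ZS S : Subgroup G) : Set G)

/-- `C_S(Z(J(S)))`. -/
abbrev BS {G : Type u} [Group G] {p : ℕ} [Fact p.Prime] (S : Sylow p G) : Subgroup G :=
  (S : Subgroup G) ⊓ Subgroup.centralizer (Cfsg.centerThompsonAOf (S : Subgroup G) : Set G)

/-- The standing hypotheses. -/
structure PUHyp {G : Type u} [Group G] (p : ℕ) [Fact p.Prime] (S : Sylow p G)
    (F : Type) [Field F] [Fintype F] (n : ℕ)
    (π : G →* Matrix.ProjectiveSpecialLinearGroup (Fin 2) F) : Prop where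
  hE₁ : Subgroup.centralizer (Cfsg.pCore p G : Set G) ≤ Cfsg.pCore p G
  hE₂ : ∃! M : Subgroup G, IsCoatom M ∧ (S : Subgroup G) ≤ M
  hF : Fintype.card F = p ^ n
  hπ : Function.Surjective π

section basics

variable {G : Type u} [Group G] [Finite G] {p : ℕ} [Fact p.Prime] {S : Sylow p G}

theorem Q_le_S : pCore p G ≤ (S : Subgroup G) := Cfsg.Agent.Lib.Helper84.pCore_le_sylow p S

theorem le_Q_of_normal {X : Subgroup G} (hX : X.Normal) (hXS : X ≤ (S : Subgroup G)) :
    X ≤ pCore p G :=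
  Cfsg.Agent.Lib.Helper84.le_pCore hX (S.isPGroup'.to_le hXS)

theorem Z_le_abMax {A : Subgroup G} (hA : A ∈ abMax (S : Subgroup G)) : ZS S ≤ A := by
  intro z hz
  exact mem_of_commute_abMax hA hz.1
    (fun a ha => Subgroup.mem_centralizer_iff.mp hz.2 a (hA.1 ha))

theorem Z_le_ZJ : ZS S ≤ centerThompsonAOf (S : Subgroup G) := by
  intro z hz
  obtain ⟨A, hA⟩ := abMax_nonempty (S : Subgroup G)
  unfold centerThompsonAOf
  exact ⟨le_thompson hA (Z_le_abMax hA hz),
    Subgroup.centralizer_le (fun x hx => thompson_le_self _ hx) hz.2⟩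

theorem ZJ_le_abMax {A : Subgroup G} (hA : A ∈ abMax (S : Subgroup G)) :
    centerThompsonAOf (S : Subgroup G) ≤ A := by
  intro z hz
  have hz' : z ∈ thompsonSubgroupAOf (S : Subgroup G) ⊓
      Subgroup.centralizer (thompsonSubgroupAOf (S : Subgroup G) : Set G) := hz
  exact mem_of_commute_abMax hA (thompson_le_self _ hz'.1)
    (fun a ha => Subgroup.mem_centralizer_iff.mp hz'.2 a (le_thompson hA ha))

theorem abMax_comm_ZJ {A : Subgroup G} (hA : A ∈ abMax (S : Subgroup G)) {a z : G}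
    (ha : a ∈ A) (hz : z ∈ centerThompsonAOf (S : Subgroup G)) : a * z = z * a := by
  have hz' : z ∈ thompsonSubgroupAOf (S : Subgroup G) ⊓
      Subgroup.centralizer (thompsonSubgroupAOf (S : Subgroup G) : Set G) := hz
  exact Subgroup.mem_centralizer_iff.mp hz'.2 a (le_thompson hA ha)

theorem S_le_normalizer_ZJ :
    (S : Subgroup G) ≤ Subgroup.normalizer (centerThompsonAOf (S : Subgroup G) : Set G) :=
  Subgroup.le_normalizer.trans (normalizer_le_normalizer_zjc (S : Subgroup G))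

theorem conj_mem_ZJ {s z : G} (hs : s ∈ (S : Subgroup G))
    (hz : z ∈ centerThompsonAOf (S : Subgroup G)) :
    s * z * s⁻¹ ∈ centerThompsonAOf (S : Subgroup G) :=
  (Subgroup.mem_normalizer_iff.mp (S_le_normalizer_ZJ hs) z).mp hz

theorem le_center_of {D N : Subgroup G} (hDZ : D ≤ ZS S)
    (hN : N ≤ Subgroup.centralizer (D : Set G)) (hNS : N ⊔ (S : Subgroup G) = ⊤) :
    D ≤ Subgroup.center G := by
  have hS : (S : Subgroup G) ≤ Subgroup.centralizer (D : Set G) := by
    intro s hs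
    rw [Subgroup.mem_centralizer_iff]
    intro d hd
    exact (Subgroup.mem_centralizer_iff.mp (hDZ hd).2 s hs).symm
  have htop : Subgroup.centralizer (D : Set G) = ⊤ := by
    apply top_le_iff.mp
    rw [← hNS]
    exact sup_le hN hS
  intro d hd
  rw [Subgroup.mem_center_iff]
  intro g
  have hg : g ∈ Subgroup.centralizer (D : Set G) := by
    rw [htop]
    exact Subgroup.mem_top g
  exact (Subgroup.mem_centralizer_iff.mp hg d hd).symm

theorem B_normal_of_S_normal (hS : (S : Subgroup G).Normal) : (BS S).Normal := by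
  have h1 : Subgroup.normalizer (centerThompsonAOf (S : Subgroup G) : Set G) = ⊤ := by
    apply top_le_iff.mp
    have h2 := normalizer_le_normalizer_zjc (S : Subgroup G)
    rw [Subgroup.normalizer_eq_top_iff.mpr hS] at h2
    exact h2
  haveI hZJ : (centerThompsonAOf (S : Subgroup G)).Normal := Subgroup.normalizer_eq_top_iff.mp h1
  haveI := hS
  exact Subgroup.normal_inf_normal _ _

end basics

namespace PUHyp

variable {G : Type u} [Group G] [Finite G] {p : ℕ} [Fact p.Prime] {S : Sylow p G}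
  {F : Type} [Field F] [Fintype F] {n : ℕ}
  {π : G →* Matrix.ProjectiveSpecialLinearGroup (Fin 2) F}

theorem exists_M (H : PUHyp p S F n π) :
    ∃ M : Subgroup G, M ≠ ⊤ ∧ ∀ X : Subgroup G, (S : Subgroup G) ≤ X → X ≠ ⊤ → X ≤ M := by
  obtain ⟨M, ⟨hM, hSM⟩, huniq⟩ := H.hE₂
  refine ⟨M, hM.1, fun X hSX hX => ?_⟩
  rcases IsCoatomic.eq_top_or_exists_le_coatom X with h | ⟨M', hM', hXM'⟩
  · exact absurd h hX
  · have h1 := huniq M' ⟨hM', hSX.trans hXM'⟩
    rw [← h1]
    exact hXM'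

theorem dich (H : PUHyp p S F n π) (N : Subgroup G) [hN : N.Normal] :
    ((S : Subgroup G) ⊓ N).Normal ∨ N ⊔ (S : Subgroup G) = ⊤ := by
  by_contra hcon
  rw [not_or] at hcon
  obtain ⟨h1, h2⟩ := hcon
  obtain ⟨M, hM, hmax⟩ := H.exists_M
  have hfr := Cfsg.Agent.Lib.Helper11.frattini_inf S N
  have hNS : N ⊔ (S : Subgroup G) ≤ M := hmax _ le_sup_right h2
  have hS : (S : Subgroup G) ≤
      Subgroup.normalizer (((S : Subgroup G) ⊓ N : Subgroup G) : Set G) := by
    intro s hs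
    apply mem_normalizer_of_conj
    intro x hx
    exact ⟨(S : Subgroup G).mul_mem ((S : Subgroup G).mul_mem hs hx.1)
      ((S : Subgroup G).inv_mem hs), hN.conj_mem x hx.2 s⟩
  have hnorm : Subgroup.normalizer (((S : Subgroup G) ⊓ N : Subgroup G) : Set G) ≠ ⊤ := by
    intro h
    exact h1 (Subgroup.normalizer_eq_top_iff.mp h)
  have h3 := hmax _ hS hnorm
  have h4 : (⊤ : Subgroup G) ≤ M := by
    rw [← hfr]
    exact sup_le h3 (le_sup_left.trans hNS)
  exact hM (top_le_iff.mp h4)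

theorem ker_sup_S_ne_top (H : PUHyp p S F n π) : π.ker ⊔ (S : Subgroup G) ≠ ⊤ := by
  intro h
  have h1 : ((S : Subgroup G).map π) = ⊤ := by
    have h2 : (π.ker ⊔ (S : Subgroup G)).map π = ⊤ := by
      rw [h]
      exact Subgroup.map_top_of_surjective π H.hπ
    rw [Subgroup.map_sup, (Subgroup.map_eq_bot_iff π.ker).mpr le_rfl, bot_sup_eq] at h2
    exact h2
  exact psl_pgroup_ne_top H.hF _ (S.isPGroup'.map π) h1

theorem S_inf_ker_le_Q (H : PUHyp p S F n π) : (S : Subgroup G) ⊓ π.ker ≤ pCore p G := by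
  rcases H.dich π.ker with h | h
  · exact le_Q_of_normal h inf_le_left
  · exact absurd h H.ker_sup_S_ne_top

theorem relIndex_Q_S_le (H : PUHyp p S F n π) :
    (pCore p G).relIndex (S : Subgroup G) ≤ p ^ n := by
  have hp : p.Prime := Fact.out
  have h1 : ((S : Subgroup G) ⊓ π.ker).relIndex (S : Subgroup G) =
      Nat.card ((S : Subgroup G).map π) := by
    rw [Subgroup.inf_relIndex_left, Subgroup.relIndex_ker]
  have h2 : Nat.card ((S : Subgroup G).map π) ≤ p ^ n :=
    Nat.le_of_dvd (pow_pos hp.pos n) (psl_card_dvd H.hF _ (S.isPGroup'.map π))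
  have h3 := relIndex_le_of_le H.S_inf_ker_le_Q (Q_le_S (S := S))
  omega

theorem ker_of_normal (H : PUHyp p S F n π) (hn : 2 ≤ n) (N : Subgroup G) [hN : N.Normal]
    (hNS : N ⊔ (S : Subgroup G) ≠ ⊤) : N ≤ π.ker := by
  have hp : p.Prime := Fact.out
  obtain ⟨M, hM, hmax⟩ := H.exists_M
  have h4 : 4 ≤ Nat.card F := by
    rw [Nat.card_eq_fintype_card, H.hF]
    calc 4 = 2 ^ 2 := by norm_num
      _ ≤ p ^ 2 := Nat.pow_le_pow_left hp.two_le 2
      _ ≤ p ^ n := Nat.pow_le_pow_right hp.pos hn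
  haveI hsimple := Matrix.ProjectiveSpecialLinearGroup.rank_two_simple h4
  have hmapn : (N.map π).Normal := Subgroup.Normal.map hN π H.hπ
  rcases hmapn.eq_bot_or_eq_top with h | h
  · exact (Subgroup.map_eq_bot_iff N).mp h
  · exfalso
    have h1 : N ⊔ π.ker = ⊤ := by
      rw [← Subgroup.comap_map_eq, h, Subgroup.comap_top]
    have h2 : N ≤ M := le_sup_left.trans (hmax _ le_sup_right hNS)
    have h3 : π.ker ≤ M := le_sup_left.trans (hmax _ le_sup_right H.ker_sup_S_ne_top)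
    have h5 : (⊤ : Subgroup G) ≤ M := by
      rw [← h1]
      exact sup_le h2 h3
    exact hM (top_le_iff.mp h5)

theorem torus_bound (H : PUHyp p S F n π) (U : Subgroup G) [hUn : U.Normal]
    (hUp : IsPGroup p U) (hCU : Subgroup.centralizer (U : Set G) ⊔ (S : Subgroup G) ≠ ⊤)
    {a : G} (haS : a ∈ (S : Subgroup G)) (haQ : a ∉ pCore p G) :
    p ^ n ≤ (U ⊓ Subgroup.centralizer ({a} : Set G)).relIndex U ∧
      p ^ (2 * n) ≤ Nat.card U := by
  have hs : ∃ j : ℕ, a ^ (p ^ j) = 1 := by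
    obtain ⟨j, hj⟩ := S.isPGroup' ⟨a, haS⟩
    refine ⟨j, ?_⟩
    have := congrArg Subtype.val hj
    simpa using this
  have hπa : π a ≠ 1 := by
    intro h
    exact haQ (H.S_inf_ker_le_Q ⟨haS, MonoidHom.mem_ker.mpr h⟩)
  have haU : a ∉ Subgroup.centralizer (U : Set G) := by
    intro h
    rcases H.dich (Subgroup.centralizer (U : Set G)) with h1 | h1
    · exact haQ (le_Q_of_normal h1 inf_le_left ⟨haS, h⟩)
    · exact hCU h1
  exact torus_index U hUp n H.hF π H.hπ
    (fun h2 => H.ker_of_normal h2 (Subgroup.centralizer (U : Set G)) hCU) a hs hπa haU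

theorem Z_le_Q (H : PUHyp p S F n π) : ZS S ≤ pCore p G := by
  intro z hz
  apply H.hE₁
  exact Subgroup.centralizer_le (fun x hx => Q_le_S hx) hz.2

theorem V_le_Q (H : PUHyp p S F n π) : VS S ≤ pCore p G := by
  haveI := Cfsg.Agent.Lib.Helper11.pCore_normal' p G
  exact Subgroup.normalClosure_le_normal H.Z_le_Q

theorem V_le_cent (H : PUHyp p S F n π) :
    VS S ≤ Subgroup.centralizer (pCore p G : Set G) := by
  haveI := Cfsg.Agent.Lib.Helper11.pCore_normal' p G
  apply Subgroup.normalClosure_le_normal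
  intro z hz
  exact Subgroup.centralizer_le (fun x hx => Q_le_S hx) hz.2

theorem Q_comm_V (H : PUHyp p S F n π) {x v : G} (hx : x ∈ pCore p G) (hv : v ∈ VS S) :
    x * v = v * x :=
  Subgroup.mem_centralizer_iff.mp (H.V_le_cent hv) x hx

theorem V_isAb (H : PUHyp p S F n π) : IsAb (VS S) :=
  fun a ha b hb => H.Q_comm_V (H.V_le_Q ha) hb

theorem V_isPGroup (H : PUHyp p S F n π) : IsPGroup p (VS S) :=
  (Cfsg.Agent.Lib.Helper84.pCore_isPGroup p G).to_le H.V_le_Q

theorem Z_le_V : ZS S ≤ VS S := Subgroup.subset_normalClosure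

theorem cent_V_sup_ne (_H : PUHyp p S F n π) (hZ : ¬ (ZS S).Normal) :
    Subgroup.centralizer (VS S : Set G) ⊔ (S : Subgroup G) ≠ ⊤ := by
  intro h
  exact hZ (normal_of_le_center
    (le_center_of le_rfl (Subgroup.centralizer_le (fun x hx => Z_le_V hx)) h))

theorem S_inf_cent_V (H : PUHyp p S F n π) (hZ : ¬ (ZS S).Normal) :
    (S : Subgroup G) ⊓ Subgroup.centralizer (VS S : Set G) = pCore p G := by
  apply le_antisymm
  · rcases H.dich (Subgroup.centralizer (VS S : Set G)) with h | h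
    · exact le_Q_of_normal h inf_le_left
    · exact absurd h (H.cent_V_sup_ne hZ)
  · intro x hx
    refine ⟨Q_le_S hx, ?_⟩
    apply Subgroup.mem_centralizer_iff.mpr
    intro v hv
    exact (H.Q_comm_V hx hv).symm

/-- Step 3: if `J(S) ≤ O_p(G)` then `C_S(Z(J(S)))` is normal (or `Z(S)` is central). -/
theorem step3 (H : PUHyp p S F n π) (hZ : ¬ (ZS S).Normal)
    (hJ : thompsonSubgroupAOf (S : Subgroup G) ≤ pCore p G) : (BS S).Normal := by
  have hQn := Cfsg.Agent.Lib.Helper11.pCore_normal' p G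
  have h1 : thompsonSubgroupAOf (pCore p G) = thompsonSubgroupAOf (S : Subgroup G) :=
    thompson_eq_of_le Q_le_S hJ
  have h2 : centerThompsonAOf (pCore p G) = centerThompsonAOf (S : Subgroup G) := by
    unfold centerThompsonAOf
    rw [h1]
  have h3 : Subgroup.normalizer (centerThompsonAOf (S : Subgroup G) : Set G) = ⊤ := by
    apply top_le_iff.mp
    have h4 := normalizer_le_normalizer_zjc (pCore p G)
    rw [Subgroup.normalizer_eq_top_iff.mpr hQn, h2] at h4
    exact h4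
  haveI hZJ : (centerThompsonAOf (S : Subgroup G)).Normal :=
    Subgroup.normalizer_eq_top_iff.mp h3
  rcases H.dich (Subgroup.centralizer (centerThompsonAOf (S : Subgroup G) : Set G)) with h | h
  · exact h
  · exact absurd (normal_of_le_center
      (le_center_of le_rfl (Subgroup.centralizer_le (fun x hx => Z_le_ZJ hx)) h)) hZ

theorem nc_sup_S (H : PUHyp p S F n π) {A : Subgroup G} (hA : A ≤ (S : Subgroup G))
    (hAQ : ¬ A ≤ pCore p G) : Subgroup.normalClosure (A : Set G) ⊔ (S : Subgroup G) = ⊤ := by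
  rcases H.dich (Subgroup.normalClosure (A : Set G)) with h | h
  · exfalso
    apply hAQ
    exact (le_inf hA Subgroup.le_normalClosure).trans (le_Q_of_normal h inf_le_left)
  · exact h

end PUHyp

/-- The outcome of Step 4 for an abelian subgroup `A` of largest order not inside `O_p(G)`. -/
structure Step4 {G : Type u} [Group G] {p : ℕ} [Fact p.Prime] (S : Sylow p G) (n : ℕ)
    (A : Subgroup G) : Prop where
  hA : A ∈ abMax (S : Subgroup G)
  sup : A ⊔ pCore p G = (S : Subgroup G)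
  cardX : Nat.card ↥((A ⊓ pCore p G) ⊔ VS S) = Nat.card A
  idxA : (VS S ⊓ Subgroup.centralizer (A : Set G)).relIndex (VS S) = p ^ n
  idxa : ∀ a ∈ A, a ∉ pCore p G →
    (VS S ⊓ Subgroup.centralizer ({a} : Set G)).relIndex (VS S) = p ^ n
  idxQ : (pCore p G).relIndex (S : Subgroup G) = p ^ n

namespace PUHyp

variable {G : Type u} [Group G] [Finite G] {p : ℕ} [Fact p.Prime] {S : Sylow p G}
  {F : Type} [Field F] [Fintype F] {n : ℕ}
  {π : G →* Matrix.ProjectiveSpecialLinearGroup (Fin 2) F}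

open Cfsg.Agent.Lib.Helper37.Torus in
theorem step4 (H : PUHyp p S F n π) (hZ : ¬ (ZS S).Normal) {A : Subgroup G}
    (hA : A ∈ abMax (S : Subgroup G)) (hAQ : ¬ A ≤ pCore p G) : Step4 S n A := by
  haveI hQn : (pCore p G).Normal := Cfsg.Agent.Lib.Helper11.pCore_normal' p G
  have hQS : pCore p G ≤ (S : Subgroup G) := Q_le_S
  have hVQ : VS S ≤ pCore p G := H.V_le_Q
  have hXS : (A ⊓ pCore p G) ⊔ VS S ≤ (S : Subgroup G) :=
    sup_le (inf_le_left.trans hA.1) (hVQ.trans hQS)
  have hXab : IsAb ((A ⊓ pCore p G) ⊔ VS S) :=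
    IsAb.sup (hA.2.1.mono inf_le_left) H.V_isAb (fun h hh k hk => H.Q_comm_V hh.2 hk)
  have hXA : Nat.card ↥((A ⊓ pCore p G) ⊔ VS S) ≤ Nat.card A := hA.2.2 _ hXS hXab
  have e1 := card_eq_card_mul_relIndex (le_sup_right : VS S ≤ (A ⊓ pCore p G) ⊔ VS S)
  have e2 : (VS S).relIndex ((A ⊓ pCore p G) ⊔ VS S) = (VS S).relIndex (A ⊓ pCore p G) :=
    Subgroup.relIndex_sup_right _ _
  have e3 : (VS S ⊓ (A ⊓ pCore p G)).relIndex (A ⊓ pCore p G)
      = (VS S).relIndex (A ⊓ pCore p G) := Subgroup.inf_relIndex_right _ _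
  have e4 := card_eq_card_mul_relIndex (inf_le_right : VS S ⊓ (A ⊓ pCore p G) ≤ A ⊓ pCore p G)
  have e5 := card_eq_card_mul_relIndex (inf_le_left : VS S ⊓ (A ⊓ pCore p G) ≤ VS S)
  have e6 := card_eq_card_mul_relIndex (inf_le_left : A ⊓ pCore p G ≤ A)
  have e7 : (A ⊓ pCore p G).relIndex A = (pCore p G).relIndex A :=
    Subgroup.inf_relIndex_left _ _
  have e8 : (pCore p G).relIndex (A ⊔ pCore p G) = (pCore p G).relIndex A :=
    Subgroup.relIndex_sup_right _ _
  have e9 := card_eq_card_mul_relIndex (le_sup_right : pCore p G ≤ A ⊔ pCore p G)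
  have e10 := card_eq_card_mul_relIndex hQS
  have e11 := H.relIndex_Q_S_le
  have hAQS : A ⊔ pCore p G ≤ (S : Subgroup G) := sup_le hA.1 hQS
  have e12 : Nat.card ↥(A ⊔ pCore p G) ≤ Nat.card ↥(S : Subgroup G) :=
    Subgroup.card_le_of_le hAQS
  have hcAQ : 0 < Nat.card ↥(A ⊓ pCore p G) := Nat.card_pos
  have hcQ : 0 < Nat.card ↥(pCore p G) := Nat.card_pos
  -- `i₃ ≤ i₄`
  have h34 : (VS S ⊓ (A ⊓ pCore p G)).relIndex (VS S) ≤ (pCore p G).relIndex A := by
    rw [e1, e2, ← e3, e5, e6, e7, e4] at hXA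
    rw [e4] at hcAQ
    exact nat_aux hXA hcAQ
  -- `i₄ ≤ i₅`
  have h45 : (pCore p G).relIndex A ≤ (pCore p G).relIndex (S : Subgroup G) := by
    rw [e9, e8, e10] at e12
    exact Nat.le_of_mul_le_mul_left e12 hcQ
  have hle1 : VS S ⊓ (A ⊓ pCore p G) ≤ VS S ⊓ Subgroup.centralizer (A : Set G) := by
    intro x hx
    refine ⟨hx.1, ?_⟩
    apply Subgroup.mem_centralizer_iff.mpr
    intro h hh
    exact hA.2.1 h hh x hx.2.1
  have h23 : (VS S ⊓ Subgroup.centralizer (A : Set G)).relIndex (VS S)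
      ≤ (VS S ⊓ (A ⊓ pCore p G)).relIndex (VS S) := relIndex_le_of_le hle1 inf_le_left
  have hkey : ∀ a ∈ A, a ∉ pCore p G →
      p ^ n ≤ (VS S ⊓ Subgroup.centralizer ({a} : Set G)).relIndex (VS S) ∧
      (VS S ⊓ Subgroup.centralizer ({a} : Set G)).relIndex (VS S)
        ≤ (VS S ⊓ Subgroup.centralizer (A : Set G)).relIndex (VS S) := by
    intro a ha haQ
    constructor
    · exact (H.torus_bound (VS S) H.V_isPGroup (H.cent_V_sup_ne hZ) (hA.1 ha) haQ).1
    · apply relIndex_le_of_le _ inf_le_left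
      exact inf_le_inf_left _ (Subgroup.centralizer_le (Set.singleton_subset_iff.mpr ha))
  obtain ⟨a, ha, haQ⟩ := SetLike.not_le_iff_exists.mp hAQ
  obtain ⟨k1, k2⟩ := hkey a ha haQ
  have hq2 : (VS S ⊓ Subgroup.centralizer (A : Set G)).relIndex (VS S) = p ^ n := by omega
  have hq3 : (VS S ⊓ (A ⊓ pCore p G)).relIndex (VS S) = (pCore p G).relIndex A := by omega
  have hq4 : (pCore p G).relIndex A = (pCore p G).relIndex (S : Subgroup G) := by omega
  refine ⟨hA, ?_, ?_, hq2, ?_, by omega⟩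
  · apply Subgroup.eq_of_le_of_card_ge hAQS
    rw [e10, e9, e8, hq4]
  · rw [e1, e2, ← e3, e5, e6, e7, e4, hq3]
    ring
  · intro a' ha' haQ'
    obtain ⟨k1', k2'⟩ := hkey a' ha' haQ'
    omega

end PUHyp

end Cfsg.Agent.Lib.Helper31.PU
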