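import Mathlib
import Cfsg.Agent.Lib.Helper31.PU.Push

/-!
# Pushing up: consequences of Step 4 and the final dichotomies
-/

set_option autoImplicit false

namespace Cfsg.Agent.Lib.Helper31.PU

open Cfsg Cfsg.Agent.Lib.Helper87

open scoped commutatorElement

universe u

theorem isAb_map {G : Type u} [Group G] {A : Subgroup G} (hA : IsAb A) (f : G →* G) :
    IsAb (A.map f) := by
  rintro _ ⟨a, ha, rfl⟩ _ ⟨b, hb, rfl⟩
  rw [← map_mul, ← map_mul, hA a ha b hb]

namespace PUHyp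

variable {G : Type u} [Group G] [Finite G] {p : ℕ} [Fact p.Prime] {S : Sylow p G}
  {F : Type} [Field F] [Fintype F] {n : ℕ}
  {π : G →* Matrix.ProjectiveSpecialLinearGroup (Fin 2) F}

/-- every element of `Z(J(S))` lies in `(A^g ∩ Q) V`. -/
theorem zj_decomp (H : PUHyp p S F n π) {A : Subgroup G} (st : Step4 S n A) (g : G) {z : G}
    (hz : z ∈ centerThompsonAOf (S : Subgroup G)) :
    ∃ b ∈ A ⊓ pCore p G, ∃ v ∈ VS S, z = g * b * g⁻¹ * v := by
  have hQn := Cfsg.Agent.Lib.Helper11.pCore_normal' p G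
  have hVn : (VS S).Normal := inferInstance
  have hXQ : (A ⊓ pCore p G) ⊔ VS S ≤ pCore p G := sup_le inf_le_right H.V_le_Q
  have hXab : IsAb ((A ⊓ pCore p G) ⊔ VS S) :=
    IsAb.sup (st.hA.2.1.mono inf_le_left) H.V_isAb (fun h hh k hk => H.Q_comm_V hh.2 hk)
  have hmapQ : ((A ⊓ pCore p G) ⊔ VS S).map (MulAut.conj g).toMonoidHom ≤ pCore p G := by
    rintro _ ⟨x, hx, rfl⟩
    exact hQn.conj_mem x (hXQ hx) g
  have hcard : Nat.card ↥(((A ⊓ pCore p G) ⊔ VS S).map (MulAut.conj g).toMonoidHom)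
      = Nat.card ↥((A ⊓ pCore p G) ⊔ VS S) :=
    Subgroup.card_map_of_injective (MulAut.conj g).injective
  have hmem : ((A ⊓ pCore p G) ⊔ VS S).map (MulAut.conj g).toMonoidHom
      ∈ abMax (S : Subgroup G) :=
    abMax_of_card (hmapQ.trans Q_le_S) (isAb_map hXab _) st.hA
      (le_of_eq (by rw [hcard, st.cardX]))
  obtain ⟨x, hx, hxz⟩ := ZJ_le_abMax hmem hz
  obtain ⟨b, hb, v, hv, rfl⟩ := Subgroup.mem_sup_of_normal_right.mp hx
  refine ⟨b, hb, g * v * g⁻¹, hVn.conj_mem v hv g, ?_⟩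
  rw [← hxz]
  show g * (b * v) * g⁻¹ = _
  group

theorem comm_ZJ_conj (H : PUHyp p S F n π) {A : Subgroup G} (st : Step4 S n A) {z a : G}
    (hz : z ∈ centerThompsonAOf (S : Subgroup G)) (ha : a ∈ A) (g : G) :
    z * (g * a * g⁻¹) * z⁻¹ * (g * a * g⁻¹)⁻¹ ∈ VS S := by
  obtain ⟨b, hb, v, hv, rfl⟩ := H.zj_decomp st g hz
  have hVn : (VS S).Normal := inferInstance
  have hc : (g * a * g⁻¹) * (g * b * g⁻¹) = (g * b * g⁻¹) * (g * a * g⁻¹) := by
    have h1 := st.hA.2.1 a ha b hb.1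
    calc (g * a * g⁻¹) * (g * b * g⁻¹) = g * (a * b) * g⁻¹ := by group
      _ = g * (b * a) * g⁻¹ := by rw [h1]
      _ = (g * b * g⁻¹) * (g * a * g⁻¹) := by group
  rw [comm_aux hc]
  apply hVn.conj_mem
  exact (VS S).mul_mem hv (hVn.conj_mem _ ((VS S).inv_mem hv) _)

theorem Y_normal (H : PUHyp p S F n π) {A : Subgroup G} (st : Step4 S n A)
    (hAQ : ¬ A ≤ pCore p G) : (centerThompsonAOf (S : Subgroup G) ⊔ VS S).Normal := by
  have hVn : (VS S).Normal := inferInstance
  rw [← Subgroup.normalizer_eq_top_iff]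
  apply top_le_iff.mp
  rw [← H.nc_sup_S st.hA.1 hAQ]
  apply sup_le
  · unfold Subgroup.normalClosure
    apply (Subgroup.closure_le _).mpr
    intro y hy
    rw [SetLike.mem_coe]
    obtain ⟨a, ha, hay⟩ := Group.mem_conjugatesOfSet_iff.mp hy
    obtain ⟨c, rfl⟩ := isConj_iff.mp hay
    apply mem_normalizer_of_conj
    apply conj_mem_sup
    · intro z hz
      have h1 := H.comm_ZJ_conj st hz ha c
      have h2 : c * a * c⁻¹ * z * (c * a * c⁻¹)⁻¹
          = (z * (c * a * c⁻¹) * z⁻¹ * (c * a * c⁻¹)⁻¹)⁻¹ * z := by group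
      rw [h2]
      exact Subgroup.mul_mem _ (le_sup_right (α := Subgroup G) (Subgroup.inv_mem _ h1))
        (le_sup_left (α := Subgroup G) hz)
    · intro v hv
      exact le_sup_right (α := Subgroup G) (hVn.conj_mem v hv _)
  · intro s hs
    apply mem_normalizer_of_conj
    apply conj_mem_sup
    · intro z hz
      exact le_sup_left (α := Subgroup G) (conj_mem_ZJ hs hz)
    · intro v hv
      exact le_sup_right (α := Subgroup G) (hVn.conj_mem v hv _)

/-- Step 4 for S2769: `[Z(J(S)), S] ∩ Z(S)` is central. -/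
theorem step4_D (H : PUHyp p S F n π) {A : Subgroup G} (st : Step4 S n A)
    (hAQ : ¬ A ≤ pCore p G) :
    ⁅centerThompsonAOf (S : Subgroup G), (S : Subgroup G)⁆ ⊓ ZS S ≤ Subgroup.center G := by
  haveI hYn := H.Y_normal st hAQ
  haveI hQn := Cfsg.Agent.Lib.Helper11.pCore_normal' p G
  have hVn : (VS S).Normal := inferInstance
  haveI hEn : ⁅centerThompsonAOf (S : Subgroup G) ⊔ VS S, pCore p G⁆.Normal := inferInstance
  have hE_le : ⁅centerThompsonAOf (S : Subgroup G) ⊔ VS S, pCore p G⁆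
      ≤ centerThompsonAOf (S : Subgroup G) := by
    rw [Subgroup.commutator_le]
    intro y hy x hx
    obtain ⟨z, hz, v, hv, rfl⟩ := Subgroup.mem_sup_of_normal_right.mp hy
    have hvx : v * x = x * v := (H.Q_comm_V hx hv).symm
    have h1 : ⁅z * v, x⁆ = z * (x * z⁻¹ * x⁻¹) := by
      rw [commutatorElement_def]
      calc z * v * x * (z * v)⁻¹ * x⁻¹ = z * (v * x) * v⁻¹ * z⁻¹ * x⁻¹ := by group
        _ = z * (x * v) * v⁻¹ * z⁻¹ * x⁻¹ := by rw [hvx]
        _ = z * (x * z⁻¹ * x⁻¹) := by group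
    rw [h1]
    exact Subgroup.mul_mem _ hz (conj_mem_ZJ (Q_le_S hx) (Subgroup.inv_mem _ hz))
  have hcomm_le : ⁅centerThompsonAOf (S : Subgroup G), (S : Subgroup G)⁆
      ≤ ⁅centerThompsonAOf (S : Subgroup G) ⊔ VS S, pCore p G⁆ := by
    rw [Subgroup.commutator_le]
    intro z hz s hs
    have hs' : s ∈ A ⊔ pCore p G := by
      rw [st.sup]
      exact hs
    obtain ⟨a, ha, x, hx, rfl⟩ := Subgroup.mem_sup_of_normal_right.mp hs'
    have haz : a * z = z * a := abMax_comm_ZJ st.hA ha hz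
    have h1 : ⁅z, a * x⁆ = a * ⁅z, x⁆ * a⁻¹ := by
      rw [commutatorElement_def, commutatorElement_def]
      calc z * (a * x) * z⁻¹ * (a * x)⁻¹ = (z * a) * x * z⁻¹ * x⁻¹ * a⁻¹ := by group
        _ = (a * z) * x * z⁻¹ * x⁻¹ * a⁻¹ := by rw [haz]
        _ = a * (z * x * z⁻¹ * x⁻¹) * a⁻¹ := by group
    rw [h1]
    exact hEn.conj_mem _
      (Subgroup.commutator_mem_commutator (le_sup_left (α := Subgroup G) hz) hx) a
  have hA_cent : (A : Set G) ⊆ Subgroup.centralizer
      ((⁅centerThompsonAOf (S : Subgroup G) ⊔ VS S, pCore p G⁆ : Subgroup G) : Set G) := by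
    intro a ha
    apply Subgroup.mem_centralizer_iff.mpr
    intro e he
    exact (abMax_comm_ZJ st.hA ha (hE_le he)).symm
  have hnc : Subgroup.normalClosure (A : Set G) ≤ Subgroup.centralizer
      ((⁅centerThompsonAOf (S : Subgroup G) ⊔ VS S, pCore p G⁆ : Subgroup G) : Set G) :=
    Subgroup.normalClosure_le_normal hA_cent
  exact le_center_of inf_le_right
    (hnc.trans (Subgroup.centralizer_le (fun x hx => hcomm_le hx.1)))
    (H.nc_sup_S st.hA.1 hAQ)

/-- Step 4 for S2770: the subgroup of `p`-th powers of `Z(S)` is central. -/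
theorem step4_W (H : PUHyp p S F n π) (hZ : ¬ (ZS S).Normal) {A : Subgroup G}
    (st : Step4 S n A) (hAQ : ¬ A ≤ pCore p G) :
    powerClosure p 1 (ZS S) ≤ Subgroup.center G := by
  haveI hVpn : (powerClosure p 1 (VS S)).Normal := powerClosure_normal p 1 (VS S)
  have hVpp : IsPGroup p (powerClosure p 1 (VS S)) :=
    H.V_isPGroup.to_le (powerClosure_le p 1 _)
  by_cases hc : Subgroup.centralizer (powerClosure p 1 (VS S) : Set G) ⊔ (S : Subgroup G) = ⊤
  · exact le_center_of (powerClosure_le p 1 _)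
      (Subgroup.centralizer_le (fun x hx => powerClosure_mono p 1 Z_le_V hx)) hc
  · exfalso
    obtain ⟨a, ha, haQ⟩ := SetLike.not_le_iff_exists.mp hAQ
    have h1 := (H.torus_bound (powerClosure p 1 (VS S)) hVpp hc (st.hA.1 ha) haQ).1
    have haV : a ∉ Subgroup.centralizer (VS S : Set G) := by
      intro h
      have h2 : a ∈ (S : Subgroup G) ⊓ Subgroup.centralizer (VS S : Set G) := ⟨st.hA.1 ha, h⟩
      rw [H.S_inf_cent_V hZ] at h2
      exact haQ h2
    have h2 := pow_strict (VS S) H.V_isAb H.V_isPGroup haV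
    have h3 := st.idxa a ha haQ
    omega

/-- The overall case division. -/
theorem main_dich (H : PUHyp p S F n π) :
    (BS S).Normal ∨ ZS S ≤ Subgroup.center G ∨
      (¬ (ZS S).Normal ∧ ∃ A : Subgroup G, Step4 S n A ∧ ¬ A ≤ pCore p G) := by
  by_cases hS : (S : Subgroup G).Normal
  · exact Or.inl (B_normal_of_S_normal hS)
  by_cases hZ : (ZS S).Normal
  · right
    left
    haveI := hZ
    have hSle : (S : Subgroup G) ≤ Subgroup.centralizer (ZS S : Set G) := by
      intro s hs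
      apply Subgroup.mem_centralizer_iff.mpr
      intro d hd
      exact (Subgroup.mem_centralizer_iff.mp hd.2 s hs).symm
    rcases H.dich (Subgroup.centralizer (ZS S : Set G)) with h | h
    · rw [inf_eq_left.mpr hSle] at h
      exact absurd h hS
    · exact le_center_of le_rfl le_rfl h
  by_cases hJ : thompsonSubgroupAOf (S : Subgroup G) ≤ pCore p G
  · exact Or.inl (H.step3 hZ hJ)
  · right
    right
    rw [thompson_le_iff] at hJ
    push Not at hJ
    obtain ⟨A, hA, hAQ⟩ := hJ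
    exact ⟨hZ, A, H.step4 hZ hA hAQ, hAQ⟩

theorem s2769 (H : PUHyp p S F n π) :
    (⁅centerThompsonAOf (S : Subgroup G), (S : Subgroup G)⁆ ⊓ ZS S).Normal ∨ (BS S).Normal := by
  rcases H.main_dich with h | h | ⟨_, A, st, hAQ⟩
  · exact Or.inr h
  · exact Or.inl (normal_of_le_center (inf_le_right.trans h))
  · exact Or.inl (normal_of_le_center (H.step4_D st hAQ))

theorem s2770 (H : PUHyp p S F n π) :
    (powerClosure p 1 (ZS S)).Normal ∨ (BS S).Normal := by
  rcases H.main_dich with h | h | ⟨hZ, A, st, hAQ⟩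
  · exact Or.inr h
  · exact Or.inl (normal_of_le_center ((powerClosure_le p 1 _).trans h))
  · exact Or.inl (normal_of_le_center (H.step4_W hZ st hAQ))

end PUHyp

end Cfsg.Agent.Lib.Helper31.PU
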