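import Mathlib
import Cfsg.Agent.Lib.Helper31.PU.Final

/-!
# Pushing up: the bound `|V : C_V(G)| ≥ q²` and a product formula
-/

set_option autoImplicit false

namespace Cfsg.Agent.Lib.Helper31.PU

open Cfsg Cfsg.Agent.Lib.Helper87

universe u

section generic2

variable {G : Type u} [Group G]

/-- Variant of `torus_index` needing the map to `PSL₂` only for `n ≥ 2`. -/
theorem torus_index' {G₀ : Type u} [Group G₀] [Finite G₀] {p : ℕ} [Fact p.Prime]
    (U : Subgroup G₀) [hUn : U.Normal] (hU : IsPGroup p U)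
    {F : Type} [Field F] [Fintype F] (n : ℕ) (hn : 1 ≤ n) (hF : Fintype.card F = p ^ n)
    (s : G₀) (hs : ∃ j : ℕ, s ^ (p ^ j) = 1)
    (hsU : s ∉ Subgroup.centralizer (U : Set G₀))
    (hπ : 2 ≤ n → ∃ π : G₀ →* Matrix.ProjectiveSpecialLinearGroup (Fin 2) F,
      Function.Surjective π ∧ Subgroup.centralizer (U : Set G₀) ≤ π.ker ∧ π s ≠ 1) :
    p ^ (2 * n) ≤ Nat.card U := by
  rcases Nat.lt_or_ge n 2 with h2 | h2
  · have hn1 : n = 1 := by omega
    subst hn1
    have hsN : s ∈ Subgroup.normalizer (U : Set G₀) := by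
      rw [Subgroup.normalizer_eq_top]
      exact Subgroup.mem_top s
    have h := Cfsg.Agent.Lib.Helper37.Torus.pkgSmall.{u} p U hU s hsN hs hsU
    rw [mul_one]
    exact h.1
  · obtain ⟨π, hπs, hker, hπ1⟩ := hπ h2
    exact (torus_index U hU n hF π hπs (fun _ => hker) s hs hπ1 hsU).2

theorem exists_lift {G₁ : Type*} {G₂ : Type*} {G₃ : Type*} [Group G₁] [Group G₂] [Group G₃]
    (f : G₁ →* G₂) (hf : Function.Surjective f) (π : G₁ →* G₃) (h : f.ker ≤ π.ker) :
    ∃ π' : G₂ →* G₃, ∀ x, π' (f x) = π x :=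
  ⟨f.liftOfSurjective hf ⟨π, h⟩, fun x => f.liftOfRightInverse_comp_apply _ _ ⟨π, h⟩ x⟩

theorem relIndex_sup_right_of_le_normalizer {H N : Subgroup G}
    (hLE : H ≤ Subgroup.normalizer (N : Set G)) : N.relIndex (H ⊔ N) = N.relIndex H := by
  letI := Subgroup.normal_subgroupOf_of_le_normalizer hLE
  letI := Subgroup.normal_subgroupOf_sup_of_le_normalizer hLE
  exact Nat.card_congr
    (QuotientGroup.quotientInfEquivProdNormalizerQuotient H N hLE).toEquiv.symm

open Cfsg.Agent.Lib.Helper37.Torus in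
/-- product formula for two elementwise commuting subgroups. -/
theorem card_sup_mul_card_inf [Finite G] {H N : Subgroup G}
    (hc : ∀ h ∈ H, ∀ k ∈ N, h * k = k * h) :
    Nat.card ↥(H ⊔ N) * Nat.card ↥(N ⊓ H) = Nat.card N * Nat.card H := by
  have hLE : H ≤ Subgroup.normalizer (N : Set G) := by
    intro h hh
    apply mem_normalizer_of_conj
    intro k hk
    have e : h * k * h⁻¹ = k := by
      rw [hc h hh k hk]
      group
    rw [e]
    exact hk
  have e1 := card_eq_card_mul_relIndex (le_sup_right : N ≤ H ⊔ N)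
  have e2 := relIndex_sup_right_of_le_normalizer hLE
  have e3 : (N ⊓ H).relIndex H = N.relIndex H := Subgroup.inf_relIndex_right N H
  have e4 := card_eq_card_mul_relIndex (inf_le_right : N ⊓ H ≤ H)
  rw [e1, e2, ← e3, e4]
  ring

theorem nat_aux2 {v v₁ vg w c' c r q : ℕ} (e1 : v = v₁ * q) (e2 : v₁ ≤ vg) (e3 : c' ≤ c)
    (e4 : v = c * r) (e5 : q ^ 2 ≤ r) (e6 : w * c' = vg * v₁) (hc : 0 < c') (hq : 0 < q) :
    v ≤ w := by
  have h1 : c' * q * q ≤ v₁ * q := by
    calc c' * q * q = c' * q ^ 2 := by ring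
      _ ≤ c * r := Nat.mul_le_mul e3 e5
      _ = v₁ * q := by rw [← e4, e1]
  have h2 : c' * q ≤ v₁ := Nat.le_of_mul_le_mul_right h1 hq
  have h3 : v * c' ≤ w * c' := by
    calc v * c' = v₁ * (c' * q) := by rw [e1]; ring
      _ ≤ v₁ * v₁ := Nat.mul_le_mul_left _ h2
      _ ≤ vg * v₁ := Nat.mul_le_mul_right _ e2
      _ = w * c' := e6.symm
  exact Nat.le_of_mul_le_mul_right h3 hc

theorem mem_centralizer_singleton {x y : G} :
    y ∈ Subgroup.centralizer ({x} : Set G) ↔ x * y = y * x := by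
  rw [Subgroup.mem_centralizer_iff]
  constructor
  · intro h
    exact h x rfl
  · rintro h _ rfl
    exact h

theorem mem_centralizer_sup {H K : Subgroup G} {x : G}
    (hH : x ∈ Subgroup.centralizer (H : Set G)) (hK : x ∈ Subgroup.centralizer (K : Set G)) :
    x ∈ Subgroup.centralizer ((H ⊔ K : Subgroup G) : Set G) := by
  have h1 : H ⊔ K ≤ Subgroup.centralizer ({x} : Set G) := by
    apply sup_le
    · intro y hy
      exact mem_centralizer_singleton.mpr (Subgroup.mem_centralizer_iff.mp hH y hy).symm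
    · intro y hy
      exact mem_centralizer_singleton.mpr (Subgroup.mem_centralizer_iff.mp hK y hy).symm
  apply Subgroup.mem_centralizer_iff.mpr
  intro y hy
  exact (mem_centralizer_singleton.mp (h1 hy)).symm

end generic2

namespace PUHyp

variable {G : Type u} [Group G] [Finite G] {p : ℕ} [Fact p.Prime] {S : Sylow p G}
  {F : Type} [Field F] [Fintype F] {n : ℕ}
  {π : G →* Matrix.ProjectiveSpecialLinearGroup (Fin 2) F}

theorem S_ne_top (H : PUHyp p S F n π) : (S : Subgroup G) ≠ ⊤ := by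
  intro h
  apply H.ker_sup_S_ne_top
  rw [h, sup_top_eq]

theorem one_le_n (H : PUHyp p S F n π) : 1 ≤ n := by
  rcases Nat.eq_zero_or_pos n with h0 | h0
  · exfalso
    have h2 := Fintype.one_lt_card (α := F)
    rw [H.hF, h0] at h2
    simp at h2
  · exact h0

theorem vc_bound_aux (H : PUHyp p S F n π) (hZ : ¬ (ZS S).Normal) {A : Subgroup G}
    (hA : A ≤ (S : Subgroup G)) (hAQ : ¬ A ≤ pCore p G) {G' : Type u} [Group G'] [Finite G']
    (f : G →* G') (hf : Function.Surjective f) (hfk : f.ker = VS S ⊓ Subgroup.center G) :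
    p ^ (2 * n) ≤ (VS S ⊓ Subgroup.center G).relIndex (VS S) := by
  have hVn : (VS S).Normal := inferInstance
  have hCZ : VS S ⊓ Subgroup.center G ≤ ZS S := by
    intro c hc
    exact ⟨Q_le_S (H.V_le_Q hc.1), Subgroup.center_le_centralizer _ hc.2⟩
  haveI hUn : ((VS S).map f).Normal := Subgroup.Normal.map hVn f hf
  have hUp : IsPGroup p ((VS S).map f) := H.V_isPGroup.map f
  have hcard : Nat.card ((VS S).map f) = (VS S ⊓ Subgroup.center G).relIndex (VS S) := by
    rw [← hfk, Subgroup.relIndex_ker]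
  haveI hNn : ((Subgroup.centralizer (((VS S).map f : Subgroup G') : Set G')).comap f).Normal :=
    Subgroup.Normal.comap inferInstance f
  have hNZ : (Subgroup.centralizer (((VS S).map f : Subgroup G') : Set G')).comap f
      ≤ Subgroup.normalizer (ZS S : Set G) := by
    intro x hx
    apply mem_normalizer_of_conj
    intro z hz
    have h1 : f z * f x = f x * f z :=
      Subgroup.mem_centralizer_iff.mp (Subgroup.mem_comap.mp hx) (f z) ⟨z, Z_le_V hz, rfl⟩
    have h2 : x * z * x⁻¹ * z⁻¹ ∈ VS S ⊓ Subgroup.center G := by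
      rw [← hfk, MonoidHom.mem_ker]
      simp only [map_mul, map_inv]
      rw [← h1]
      group
    have e : x * z * x⁻¹ = (x * z * x⁻¹ * z⁻¹) * z := by group
    rw [e]
    exact mul_mem (hCZ h2) hz
  have hSZ : (S : Subgroup G) ≤ Subgroup.normalizer (ZS S : Set G) := by
    intro s hs
    apply mem_normalizer_of_conj
    intro z hz
    have h1 : s * z = z * s := Subgroup.mem_centralizer_iff.mp hz.2 s hs
    have e : s * z * s⁻¹ = z := by
      rw [h1]
      group
    rw [e]
    exact hz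
  have hNS : (Subgroup.centralizer (((VS S).map f : Subgroup G') : Set G')).comap f
      ⊔ (S : Subgroup G) ≠ ⊤ := by
    intro h
    apply hZ
    rw [← Subgroup.normalizer_eq_top_iff]
    apply top_le_iff.mp
    rw [← h]
    exact sup_le hNZ hSZ
  obtain ⟨a, ha, haQ⟩ := SetLike.not_le_iff_exists.mp hAQ
  have haS := hA ha
  have hs : ∃ j : ℕ, (f a) ^ (p ^ j) = 1 := by
    obtain ⟨j, hj⟩ := S.isPGroup' ⟨a, haS⟩
    refine ⟨j, ?_⟩
    have h1 : a ^ (p ^ j) = 1 := by
      have := congrArg Subtype.val hj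
      simpa using this
    rw [← map_pow, h1, map_one]
  have hfa : f a ∉ Subgroup.centralizer (((VS S).map f : Subgroup G') : Set G') := by
    intro h
    rcases H.dich ((Subgroup.centralizer (((VS S).map f : Subgroup G') : Set G')).comap f)
      with h1 | h1
    · exact haQ (le_Q_of_normal h1 inf_le_left ⟨haS, Subgroup.mem_comap.mpr h⟩)
    · exact hNS h1
  rw [← hcard]
  apply torus_index' ((VS S).map f) hUp n H.one_le_n H.hF (f a) hs hfa
  intro h2
  have hCker : f.ker ≤ π.ker := by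
    rw [hfk]
    haveI hCn : (VS S ⊓ Subgroup.center G).Normal := normal_of_le_center inf_le_right
    apply H.ker_of_normal h2
    rw [sup_eq_right.mpr (hCZ.trans inf_le_left)]
    exact H.S_ne_top
  obtain ⟨π', hπ'⟩ := exists_lift f hf π hCker
  refine ⟨π', ?_, ?_, ?_⟩
  · intro y
    obtain ⟨x, rfl⟩ := H.hπ y
    exact ⟨f x, hπ' x⟩
  · intro y hy
    obtain ⟨x, rfl⟩ := hf y
    rw [MonoidHom.mem_ker, hπ']
    have hx : x ∈ (Subgroup.centralizer (((VS S).map f : Subgroup G') : Set G')).comap f :=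
      Subgroup.mem_comap.mpr hy
    exact MonoidHom.mem_ker.mp
      (H.ker_of_normal h2
        ((Subgroup.centralizer (((VS S).map f : Subgroup G') : Set G')).comap f) hNS hx)
  · rw [hπ']
    intro h
    exact haQ (H.S_inf_ker_le_Q ⟨haS, MonoidHom.mem_ker.mpr h⟩)

theorem vc_bound (H : PUHyp p S F n π) (hZ : ¬ (ZS S).Normal) {A : Subgroup G}
    (hA : A ≤ (S : Subgroup G)) (hAQ : ¬ A ≤ pCore p G) :
    p ^ (2 * n) ≤ (VS S ⊓ Subgroup.center G).relIndex (VS S) := by
  haveI hCn : (VS S ⊓ Subgroup.center G).Normal := normal_of_le_center inf_le_right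
  exact H.vc_bound_aux hZ hA hAQ (QuotientGroup.mk' (VS S ⊓ Subgroup.center G))
    (QuotientGroup.mk'_surjective _) (QuotientGroup.ker_mk' _)

end PUHyp

end Cfsg.Agent.Lib.Helper31.PU
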