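import Mathlib
import Cfsg.Agent.Lib.Helper31.PU.Quot

/-!
# Pushing up: `C_S(Z(J(S)))` is a Sylow subgroup of its normal closure
-/

set_option autoImplicit false

namespace Cfsg.Agent.Lib.Helper31.PU

open Cfsg Cfsg.Agent.Lib.Helper87

universe u

section basics2

variable {G : Type u} [Group G] [Finite G] {p : ℕ} [Fact p.Prime] {S : Sylow p G}

theorem A_le_cent_ZJ {A : Subgroup G} (hA : A ∈ abMax (S : Subgroup G)) :
    A ≤ Subgroup.centralizer (centerThompsonAOf (S : Subgroup G) : Set G) := by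
  intro a ha
  apply Subgroup.mem_centralizer_iff.mpr
  intro z hz
  exact (abMax_comm_ZJ hA ha hz).symm

theorem conj_mem_cent_ZJ {s y : G} (hs : s ∈ (S : Subgroup G))
    (hy : y ∈ Subgroup.centralizer (centerThompsonAOf (S : Subgroup G) : Set G)) :
    s * y * s⁻¹ ∈ Subgroup.centralizer (centerThompsonAOf (S : Subgroup G) : Set G) := by
  apply Subgroup.mem_centralizer_iff.mpr
  intro z hz
  have hz' : s⁻¹ * z * s⁻¹⁻¹ ∈ centerThompsonAOf (S : Subgroup G) :=
    conj_mem_ZJ (Subgroup.inv_mem _ hs) hz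
  have h1 := Subgroup.mem_centralizer_iff.mp hy _ hz'
  calc z * (s * y * s⁻¹) = s * ((s⁻¹ * z * s⁻¹⁻¹) * y) * s⁻¹ := by group
    _ = s * (y * (s⁻¹ * z * s⁻¹⁻¹)) * s⁻¹ := by rw [h1]
    _ = s * y * s⁻¹ * z := by group

theorem comm_QA_mem {A : Subgroup G} (hA : A ∈ abMax (S : Subgroup G)) {x a : G}
    (hx : x ∈ pCore p G) (ha : a ∈ A) :
    x * a * x⁻¹ * a⁻¹ ∈ pCore p G ⊓
      Subgroup.centralizer (centerThompsonAOf (S : Subgroup G) : Set G) := by
  have hQn := Cfsg.Agent.Lib.Helper11.pCore_normal' p G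
  apply Subgroup.mem_inf.mpr
  constructor
  · have e : x * a * x⁻¹ * a⁻¹ = x * (a * x⁻¹ * a⁻¹) := by group
    rw [e]
    exact mul_mem hx (hQn.conj_mem _ (inv_mem hx) a)
  · exact mul_mem (conj_mem_cent_ZJ (Q_le_S hx) (A_le_cent_ZJ hA ha))
      (inv_mem (A_le_cent_ZJ hA ha))

end basics2

namespace PUHyp

variable {G : Type u} [Group G] [Finite G] {p : ℕ} [Fact p.Prime] {S : Sylow p G}
  {F : Type} [Field F] [Fintype F] {n : ℕ}
  {π : G →* Matrix.ProjectiveSpecialLinearGroup (Fin 2) F}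

/-- two conjugates of `A` generate `G` modulo `O_p(G)`. -/
theorem exists_conj_gen (H : PUHyp p S F n π) (hS : ¬ (S : Subgroup G).Normal)
    {A : Subgroup G} (st : Step4 S n A) :
    ∃ g : G, A ⊔ A.map (MulAut.conj g).toMonoidHom ⊔ pCore p G = ⊤ := by
  have hQn := Cfsg.Agent.Lib.Helper11.pCore_normal' p G
  obtain ⟨M, hM, hmax⟩ := H.exists_M
  have hnc : Subgroup.normalClosure ((S : Subgroup G) : Set G) = ⊤ := by
    rcases H.dich (Subgroup.normalClosure ((S : Subgroup G) : Set G)) with h | h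
    · rw [inf_eq_left.mpr Subgroup.le_normalClosure] at h
      exact absurd h hS
    · rw [sup_eq_left.mpr Subgroup.le_normalClosure] at h
      exact h
  have hex : ∃ g : G, ∃ s ∈ (S : Subgroup G), g * s * g⁻¹ ∉ M := by
    by_contra hcon
    push Not at hcon
    apply hM
    apply top_le_iff.mp
    rw [← hnc]
    unfold Subgroup.normalClosure
    apply (Subgroup.closure_le _).mpr
    intro y hy
    obtain ⟨s, hs, hsy⟩ := Group.mem_conjugatesOfSet_iff.mp hy
    obtain ⟨c, rfl⟩ := isConj_iff.mp hsy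
    exact hcon c s hs
  obtain ⟨g, s, hs, hgs⟩ := hex
  refine ⟨g, ?_⟩
  by_contra hne
  have hSle : (S : Subgroup G) ≤ A ⊔ A.map (MulAut.conj g).toMonoidHom ⊔ pCore p G := by
    rw [← st.sup]
    exact sup_le (le_sup_left.trans le_sup_left) le_sup_right
  have hle := hmax _ hSle hne
  apply hgs
  apply hle
  have hs' : s ∈ A ⊔ pCore p G := by
    rw [st.sup]
    exact hs
  obtain ⟨a, ha, x, hx, rfl⟩ := Subgroup.mem_sup_of_normal_right.mp hs'
  have e : g * (a * x) * g⁻¹ = (g * a * g⁻¹) * (g * x * g⁻¹) := by group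
  rw [e]
  exact mul_mem
    ((le_sup_left : A ⊔ A.map (MulAut.conj g).toMonoidHom ≤ _)
      ((le_sup_right : A.map (MulAut.conj g).toMonoidHom ≤ _) ⟨a, ha, rfl⟩))
    ((le_sup_right : pCore p G ≤ _) (hQn.conj_mem x hx g))

open Cfsg.Agent.Lib.Helper37.Torus in
/-- `V = C_V(A) C_V(A^g)`. -/
theorem V_eq_sup (H : PUHyp p S F n π) (hZ : ¬ (ZS S).Normal) {A : Subgroup G}
    (st : Step4 S n A) (hAQ : ¬ A ≤ pCore p G) (g : G)
    (hg : A ⊔ A.map (MulAut.conj g).toMonoidHom ⊔ pCore p G = ⊤) :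
    VS S ⊓ Subgroup.centralizer (A : Set G) ⊔
      VS S ⊓ Subgroup.centralizer ((A.map (MulAut.conj g).toMonoidHom : Subgroup G) : Set G)
      = VS S := by
  have hp : p.Prime := Fact.out
  have hVn : (VS S).Normal := inferInstance
  have hle : VS S ⊓ Subgroup.centralizer (A : Set G) ⊔
      VS S ⊓ Subgroup.centralizer ((A.map (MulAut.conj g).toMonoidHom : Subgroup G) : Set G)
      ≤ VS S := sup_le inf_le_left inf_le_left
  apply Subgroup.eq_of_le_of_card_ge hle
  have hmap : (VS S ⊓ Subgroup.centralizer (A : Set G)).map (MulAut.conj g).toMonoidHom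
      ≤ VS S ⊓ Subgroup.centralizer
        ((A.map (MulAut.conj g).toMonoidHom : Subgroup G) : Set G) := by
    rintro _ ⟨x, hx, rfl⟩
    apply Subgroup.mem_inf.mpr
    refine ⟨hVn.conj_mem x hx.1 g, ?_⟩
    apply Subgroup.mem_centralizer_iff.mpr
    rintro _ ⟨a, ha, rfl⟩
    have h1 : a * x = x * a := Subgroup.mem_centralizer_iff.mp hx.2 a ha
    show g * a * g⁻¹ * (g * x * g⁻¹) = g * x * g⁻¹ * (g * a * g⁻¹)
    calc g * a * g⁻¹ * (g * x * g⁻¹) = g * (a * x) * g⁻¹ := by group
      _ = g * (x * a) * g⁻¹ := by rw [h1]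
      _ = g * x * g⁻¹ * (g * a * g⁻¹) := by group
  have e2 : Nat.card ↥(VS S ⊓ Subgroup.centralizer (A : Set G)) ≤
      Nat.card ↥(VS S ⊓ Subgroup.centralizer
        ((A.map (MulAut.conj g).toMonoidHom : Subgroup G) : Set G)) := by
    have h1 : Nat.card ↥((VS S ⊓ Subgroup.centralizer (A : Set G)).map
        (MulAut.conj g).toMonoidHom) = Nat.card ↥(VS S ⊓ Subgroup.centralizer (A : Set G)) :=
      Subgroup.card_map_of_injective (MulAut.conj g).injective
    rw [← h1]
    exact Subgroup.card_le_of_le hmap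
  have hinf : VS S ⊓ Subgroup.centralizer
        ((A.map (MulAut.conj g).toMonoidHom : Subgroup G) : Set G) ⊓
      (VS S ⊓ Subgroup.centralizer (A : Set G)) ≤ VS S ⊓ Subgroup.center G := by
    intro x hx
    apply Subgroup.mem_inf.mpr
    refine ⟨hx.1.1, ?_⟩
    have h1 : A ⊔ A.map (MulAut.conj g).toMonoidHom ⊔ pCore p G
        ≤ Subgroup.centralizer ({x} : Set G) := by
      apply sup_le (sup_le ?_ ?_) ?_
      · intro a ha
        exact mem_centralizer_singleton.mpr (Subgroup.mem_centralizer_iff.mp hx.2.2 a ha).symm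
      · intro y hy
        exact mem_centralizer_singleton.mpr (Subgroup.mem_centralizer_iff.mp hx.1.2 y hy).symm
      · intro y hy
        exact mem_centralizer_singleton.mpr (H.Q_comm_V hy hx.1.1).symm
    rw [hg] at h1
    apply Subgroup.mem_center_iff.mpr
    intro y
    exact (mem_centralizer_singleton.mp (h1 (Subgroup.mem_top y))).symm
  have e1 := card_eq_card_mul_relIndex
    (inf_le_left : VS S ⊓ Subgroup.centralizer (A : Set G) ≤ VS S)
  rw [st.idxA] at e1
  have e4 := card_eq_card_mul_relIndex (inf_le_left : VS S ⊓ Subgroup.center G ≤ VS S)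
  have e5 := H.vc_bound hZ st.hA.1 hAQ
  rw [pow_mul'] at e5
  have e6 := card_sup_mul_card_inf (H := VS S ⊓ Subgroup.centralizer (A : Set G))
    (N := VS S ⊓ Subgroup.centralizer
      ((A.map (MulAut.conj g).toMonoidHom : Subgroup G) : Set G))
    (fun h hh k hk => H.V_isAb h hh.1 k hk.1)
  have e3 := Subgroup.card_le_of_le hinf
  exact nat_aux2 e1 e2 e3 e4 e5 e6 Nat.card_pos (pow_pos hp.pos n)

/-- `⟨A, A^g⟩ ∩ O_p(G)` centralizes `Z(J(S))`. -/
theorem L_inf_Q_le (H : PUHyp p S F n π) (hZ : ¬ (ZS S).Normal) {A : Subgroup G}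
    (st : Step4 S n A) (hAQ : ¬ A ≤ pCore p G) (g : G)
    (hg : A ⊔ A.map (MulAut.conj g).toMonoidHom ⊔ pCore p G = ⊤) :
    (A ⊔ A.map (MulAut.conj g).toMonoidHom) ⊓ pCore p G
      ≤ Subgroup.centralizer (centerThompsonAOf (S : Subgroup G) : Set G) := by
  intro x hx
  apply Subgroup.mem_centralizer_iff.mpr
  intro z hz
  obtain ⟨b, hb, u, hu, hzeq⟩ := H.zj_decomp st g hz
  have hu' : u ∈ VS S ⊓ Subgroup.centralizer (A : Set G) ⊔
      VS S ⊓ Subgroup.centralizer
        ((A.map (MulAut.conj g).toMonoidHom : Subgroup G) : Set G) := by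
    rw [H.V_eq_sup hZ st hAQ g hg]
    exact hu
  obtain ⟨u₁, hu₁, ug, hug, rfl⟩ :=
    mem_sup_of_commute (H := VS S ⊓ Subgroup.centralizer (A : Set G))
      (K := VS S ⊓ Subgroup.centralizer
        ((A.map (MulAut.conj g).toMonoidHom : Subgroup G) : Set G))
      (fun h hh k hk => H.V_isAb h hh.1 k hk.1) hu'
  have hcomm : Commute u₁ ug := H.V_isAb u₁ hu₁.1 ug hug.1
  have hz0 : z = (g * b * g⁻¹ * ug) * u₁ := by
    rw [hzeq, hcomm.eq]
    group
  have hL : A ⊔ A.map (MulAut.conj g).toMonoidHom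
      ≤ Subgroup.centralizer ({g * b * g⁻¹ * ug} : Set G) := by
    apply sup_le
    · intro a ha
      apply mem_centralizer_singleton.mpr
      have hza : Commute a z := abMax_comm_ZJ st.hA ha hz
      have hau : Commute a u₁ := Subgroup.mem_centralizer_iff.mp hu₁.2 a ha
      have h1 : Commute a (z * u₁⁻¹) := hza.mul_right hau.inv_right
      have e : z * u₁⁻¹ = g * b * g⁻¹ * ug := by
        rw [hz0]
        group
      rw [e] at h1
      exact h1.symm.eq
    · rintro _ ⟨a, ha, rfl⟩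
      apply mem_centralizer_singleton.mpr
      show g * b * g⁻¹ * ug * (g * a * g⁻¹) = g * a * g⁻¹ * (g * b * g⁻¹ * ug)
      have hab : b * a = a * b := st.hA.2.1 b hb.1 a ha
      have h1 : Commute (g * b * g⁻¹) (g * a * g⁻¹) := by
        show g * b * g⁻¹ * (g * a * g⁻¹) = g * a * g⁻¹ * (g * b * g⁻¹)
        calc g * b * g⁻¹ * (g * a * g⁻¹) = g * (b * a) * g⁻¹ := by group
          _ = g * (a * b) * g⁻¹ := by rw [hab]
          _ = g * a * g⁻¹ * (g * b * g⁻¹) := by group
      have h2 : g * a * g⁻¹ * ug = ug * (g * a * g⁻¹) :=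
        Subgroup.mem_centralizer_iff.mp hug.2 (g * a * g⁻¹) ⟨a, ha, rfl⟩
      have h3 : Commute ug (g * a * g⁻¹) := h2.symm
      exact (h1.mul_left h3).eq
  have hx0 : Commute (g * b * g⁻¹ * ug) x := mem_centralizer_singleton.mp (hL hx.1)
  have hxu : Commute u₁ x := (H.Q_comm_V hx.2 hu₁.1).symm
  rw [hz0]
  exact (hx0.mul_left hxu).eq

theorem B0_normal (H : PUHyp p S F n π) {A : Subgroup G} (st : Step4 S n A)
    (hAQ : ¬ A ≤ pCore p G) :
    (pCore p G ⊓ Subgroup.centralizer (centerThompsonAOf (S : Subgroup G) : Set G)).Normal := by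
  haveI hYn := H.Y_normal st hAQ
  haveI hQn := Cfsg.Agent.Lib.Helper11.pCore_normal' p G
  have e : pCore p G ⊓ Subgroup.centralizer (centerThompsonAOf (S : Subgroup G) : Set G)
      = pCore p G ⊓ Subgroup.centralizer
        ((centerThompsonAOf (S : Subgroup G) ⊔ VS S : Subgroup G) : Set G) := by
    apply le_antisymm
    · intro x hx
      apply Subgroup.mem_inf.mpr
      refine ⟨hx.1, mem_centralizer_sup hx.2 ?_⟩
      apply Subgroup.mem_centralizer_iff.mpr
      intro v hv
      exact (H.Q_comm_V hx.1 hv).symm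
    · exact inf_le_inf_left _ (Subgroup.centralizer_le
        (fun y hy => (le_sup_left : centerThompsonAOf (S : Subgroup G) ≤ _) hy))
  rw [e]
  exact Subgroup.normal_inf_normal _ _

theorem N1_normal (H : PUHyp p S F n π) {A : Subgroup G} (st : Step4 S n A)
    (hAQ : ¬ A ≤ pCore p G) (g : G)
    (hg : A ⊔ A.map (MulAut.conj g).toMonoidHom ⊔ pCore p G = ⊤) :
    (A ⊔ A.map (MulAut.conj g).toMonoidHom ⊔
      (pCore p G ⊓ Subgroup.centralizer (centerThompsonAOf (S : Subgroup G) : Set G))).Normal := by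
  have hB₀ := H.B0_normal st hAQ
  have hQn := Cfsg.Agent.Lib.Helper11.pCore_normal' p G
  rw [← Subgroup.normalizer_eq_top_iff]
  apply top_le_iff.mp
  rw [← hg]
  apply sup_le
  · exact (le_sup_left : A ⊔ A.map (MulAut.conj g).toMonoidHom ≤ _).trans Subgroup.le_normalizer
  · intro x hx
    apply mem_normalizer_of_conj
    apply conj_mem_sup
    · apply conj_mem_sup
      · intro a ha
        have e : x * a * x⁻¹ = (x * a * x⁻¹ * a⁻¹) * a := by group
        rw [e]
        exact mul_mem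
          ((le_sup_right : pCore p G ⊓
            Subgroup.centralizer (centerThompsonAOf (S : Subgroup G) : Set G) ≤ _)
            (comm_QA_mem st.hA hx ha))
          ((le_sup_left : A ⊔ A.map (MulAut.conj g).toMonoidHom ≤ _)
            ((le_sup_left : A ≤ _) ha))
      · rintro _ ⟨a, ha, rfl⟩
        show x * (g * a * g⁻¹) * x⁻¹ ∈ _
        have hx' : g⁻¹ * x * g ∈ pCore p G := by
          have h1 := hQn.conj_mem x hx g⁻¹
          simpa using h1
        have e : x * (g * a * g⁻¹) * x⁻¹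
            = (g * ((g⁻¹ * x * g) * a * (g⁻¹ * x * g)⁻¹ * a⁻¹) * g⁻¹) * (g * a * g⁻¹) := by
          group
        rw [e]
        exact mul_mem
          ((le_sup_right : pCore p G ⊓
            Subgroup.centralizer (centerThompsonAOf (S : Subgroup G) : Set G) ≤ _)
            (hB₀.conj_mem _ (comm_QA_mem st.hA hx' ha) g))
          ((le_sup_left : A ⊔ A.map (MulAut.conj g).toMonoidHom ≤ _)
            ((le_sup_right : A.map (MulAut.conj g).toMonoidHom ≤ _) ⟨a, ha, rfl⟩))
    · intro b hb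
      exact (le_sup_right : pCore p G ⊓
        Subgroup.centralizer (centerThompsonAOf (S : Subgroup G) : Set G) ≤ _)
        (hB₀.conj_mem b hb x)

/-- Step 4 for S2768. -/
theorem step4_B (H : PUHyp p S F n π) (hZ : ¬ (ZS S).Normal) (hS : ¬ (S : Subgroup G).Normal)
    {A : Subgroup G} (st : Step4 S n A) (hAQ : ¬ A ≤ pCore p G) :
    (S : Subgroup G) ⊓ Subgroup.normalClosure (BS S : Set G) ≤ BS S := by
  have hQn := Cfsg.Agent.Lib.Helper11.pCore_normal' p G
  obtain ⟨g, hg⟩ := H.exists_conj_gen hS st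
  haveI hB₀ := H.B0_normal st hAQ
  haveI hN₁ := H.N1_normal st hAQ g hg
  have hB_le : BS S ≤ A ⊔ A.map (MulAut.conj g).toMonoidHom ⊔
      (pCore p G ⊓ Subgroup.centralizer (centerThompsonAOf (S : Subgroup G) : Set G)) := by
    intro y hy
    have hy' : y ∈ A ⊔ pCore p G := by
      rw [st.sup]
      exact hy.1
    obtain ⟨a, ha, x, hx, rfl⟩ := Subgroup.mem_sup_of_normal_right.mp hy'
    have hxc : x ∈ Subgroup.centralizer (centerThompsonAOf (S : Subgroup G) : Set G) := by
      have e : x = a⁻¹ * (a * x) := by group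
      rw [e]
      exact mul_mem (inv_mem (A_le_cent_ZJ st.hA ha)) hy.2
    exact mul_mem
      ((le_sup_left : A ⊔ A.map (MulAut.conj g).toMonoidHom ≤ _) ((le_sup_left : A ≤ _) ha))
      ((le_sup_right : pCore p G ⊓
        Subgroup.centralizer (centerThompsonAOf (S : Subgroup G) : Set G) ≤ _)
        (Subgroup.mem_inf.mpr ⟨hx, hxc⟩))
  have hSN : (S : Subgroup G) ⊓ (A ⊔ A.map (MulAut.conj g).toMonoidHom ⊔
      (pCore p G ⊓ Subgroup.centralizer (centerThompsonAOf (S : Subgroup G) : Set G)))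
      ≤ BS S := by
    intro y hy
    obtain ⟨l, hl, b, hb, rfl⟩ := Subgroup.mem_sup_of_normal_right.mp hy.2
    have hlS : l ∈ (S : Subgroup G) := by
      have e : l = (l * b) * b⁻¹ := by group
      rw [e]
      exact mul_mem hy.1 (inv_mem (Q_le_S hb.1))
    have hl' : l ∈ A ⊔ pCore p G := by
      rw [st.sup]
      exact hlS
    obtain ⟨a, ha, x, hx, rfl⟩ := Subgroup.mem_sup_of_normal_right.mp hl'
    have hxL : x ∈ A ⊔ A.map (MulAut.conj g).toMonoidHom := by
      have e : x = a⁻¹ * (a * x) := by group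
      rw [e]
      exact mul_mem (inv_mem ((le_sup_left : A ≤ _) ha)) hl
    have hxc : x ∈ Subgroup.centralizer (centerThompsonAOf (S : Subgroup G) : Set G) :=
      H.L_inf_Q_le hZ st hAQ g hg (Subgroup.mem_inf.mpr ⟨hxL, hx⟩)
    apply Subgroup.mem_inf.mpr
    exact ⟨hy.1, mul_mem (mul_mem (A_le_cent_ZJ st.hA ha) hxc) hb.2⟩
  have hnc : Subgroup.normalClosure (BS S : Set G) ≤ A ⊔ A.map (MulAut.conj g).toMonoidHom ⊔
      (pCore p G ⊓ Subgroup.centralizer (centerThompsonAOf (S : Subgroup G) : Set G)) :=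
    Subgroup.normalClosure_le_normal hB_le
  exact (inf_le_inf_left _ hnc).trans hSN

/-- S2768: `C_S(Z(J(S)))` is a Sylow `p`-subgroup of its normal closure. -/
theorem s2768 (H : PUHyp p S F n π) (hZ : ¬ (ZS S).Normal) :
    ∃ P : Sylow p ↥(Subgroup.normalClosure (BS S : Set G)),
      (P : Subgroup ↥(Subgroup.normalClosure (BS S : Set G)))
        = (BS S).subgroupOf (Subgroup.normalClosure (BS S : Set G)) := by
  have key : (S : Subgroup G) ⊓ Subgroup.normalClosure (BS S : Set G) ≤ BS S := by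
    rcases H.main_dich with h | h | ⟨_, A, st, hAQ⟩
    · haveI := h
      rw [Subgroup.normalClosure_eq_self]
      exact inf_le_right
    · exact absurd (normal_of_le_center h) hZ
    · by_cases hS : (S : Subgroup G).Normal
      · haveI := B_normal_of_S_normal hS
        rw [Subgroup.normalClosure_eq_self]
        exact inf_le_right
      · exact H.step4_B hZ hS st hAQ
  obtain ⟨P, hP⟩ := Cfsg.Agent.Lib.Helper11.exists_sylow_inf_normal S
    (Subgroup.normalClosure (BS S : Set G))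
  refine ⟨P, ?_⟩
  rw [hP]
  ext x
  rw [Subgroup.mem_subgroupOf, Subgroup.mem_subgroupOf]
  exact ⟨fun h => key ⟨h, x.2⟩, fun h => h.1⟩

end PUHyp

end Cfsg.Agent.Lib.Helper31.PU
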